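import Groth.Agent.L21.AutSch.Infinitesimal
import Groth.Agent.L21.RR.BaseChange
import Groth.Agent.L21.Disc.SimplyConn
import Groth.Agent.L23.QFDescent
import Groth.Agent.S1613
import Groth.Agent.S9777
import Groth.Agent.S9213
import Groth.Agent.S14352
import Groth.Agent.S18894
import Groth.Agent.S18905
import Mathlib.AlgebraicGeometry.ZariskisMainTheorem

/-! # The automorphism scheme of a family of curves of genus at least two -/

set_option autoImplicit false
set_option linter.style.haveILetI false
set_option linter.unusedSectionVars false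
set_option backward.isDefEq.respectTransparency.types false
set_option backward.isDefEq.respectTransparency false
set_option synthInstance.maxHeartbeats 400000

universe u

open CategoryTheory CategoryTheory.Limits AlgebraicGeometry TopologicalSpace Opposite ArtFun ArtFun.Art
  MonoidalCategory CartesianMonoidalCategory MonObj GrpObj

noncomputable section

namespace Groth.L21.AutSch

variable {S : Scheme.{u}} {X : Over S}

/-- A fibre of a smooth curve over any field-valued point. -/
theorem curve_of_isPullback [IsProper X.hom] [Smooth X.hom] [GeometricallyConnected X.hom]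
    (hdim : ∀ s : S, topologicalKrullDim ↥(X.hom.fiber s) = 1) (g : ℕ)
    (hgen : ∀ s : S, letI : (X.hom.fiber s).Over (Spec (S.residueField s)) := ⟨X.hom.fiberToSpecResidueField s⟩
      Curv2.genus (S.residueField s) (X.hom.fiber s) = g)
    {K : Type u} [Field K] {s : Spec (CommRingCat.of K) ⟶ S} {C : Scheme.{u}} (i : C ⟶ X.left)
    (q : C ⟶ Spec (CommRingCat.of K)) (sq : IsPullback i q X.hom s) :
    Curve.IsSmoothProperCurve K C q ∧ topologicalKrullDim C = 1 ∧ @Curv2.genus K _ C ⟨q⟩ = g := by
  haveI : IsProper q := MorphismProperty.of_isPullback (P := @IsProper) sq inferInstance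
  haveI : Smooth q := MorphismProperty.of_isPullback (P := @Smooth) sq inferInstance
  haveI : GeometricallyConnected q := MorphismProperty.of_isPullback (P := @GeometricallyConnected) sq inferInstance
  haveI : Subsingleton (Spec (CommRingCat.of K)) := inferInstanceAs (Subsingleton (PrimeSpectrum K))
  let o : Spec (CommRingCat.of K) := IsLocalRing.closedPoint K
  let t := s o
  have hd : topologicalKrullDim C = 1 := by
    have h1 := Groth.Agent.S9777.result X.hom s q i sq o
    rw [hdim] at h1
    rw [← h1, (q.fiberHomeo o).isHomeomorph.topologicalKrullDim_eq]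
    have hu : q ⁻¹' {o} = Set.univ := Set.eq_univ_of_forall fun z => Subsingleton.elim _ _
    rw [(Homeomorph.setCongr hu).isHomeomorph.topologicalKrullDim_eq,
      (Homeomorph.Set.univ ↥C).isHomeomorph.topologicalKrullDim_eq]
  haveI : Nonempty C := by
    by_contra h
    haveI := not_nonempty_iff.1 h
    have h0 : topologicalKrullDim C = ⊥ := by
      haveI : IsEmpty (TopologicalSpace.IrreducibleCloseds C) :=
        ⟨fun Z => (inferInstance : IsEmpty C).false Z.isIrreducible.nonempty.some⟩
      exact Order.krullDim_eq_bot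
    rw [hd] at h0
    exact absurd h0 (by decide)
  haveI : GeometricallyIntegral q := Groth.L21.Disc.geometricallyIntegral_of_smooth q
  refine ⟨⟨inferInstance, inferInstance, GeometricallyIntegral.isIntegral_of_subsingleton q, hd⟩, hd, ?_⟩
  let φ := Scheme.descResidueField (Scheme.stalkClosedPointTo s)
  have hu : Spec.map φ ≫ S.fromSpecResidueField t = s :=
    Scheme.descResidueField_stalkClosedPointTo_fromSpecResidueField _ _ _
  let l : C ⟶ X.hom.fiber t := pullback.lift i (q ≫ Spec.map φ) (by rw [Category.assoc, hu]; exact sq.w)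
  have sql : IsPullback l q (X.hom.fiberToSpecResidueField t) (Spec.map φ) := by
    refine IsPullback.of_right ?_ (pullback.lift_snd _ _ _) (IsPullback.of_hasPullback X.hom _)
    rw [hu, pullback.lift_fst]
    exact sq
  letI : C.Over (Spec (CommRingCat.of K)) := ⟨q⟩
  letI : (X.hom.fiber t).Over (Spec (CommRingCat.of ↑(S.residueField t))) := ⟨X.hom.fiberToSpecResidueField t⟩
  letI : Algebra ↑(S.residueField t) K := φ.hom.toAlgebra
  haveI : IsProper (X.hom.fiber t ↘ Spec (CommRingCat.of ↑(S.residueField t))) :=
    MorphismProperty.pullback_snd (P := @IsProper) X.hom _ inferInstance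
  haveI : IsProper (C ↘ Spec (CommRingCat.of K)) := ‹IsProper q›
  exact (Groth.L21.RR.genus_bc (k := ↑(S.residueField t)) (K := K) l sql).trans (hgen t)

variable [IsProper X.hom] [Smooth X.hom] [GeometricallyConnected X.hom]
  (hdim : ∀ s : S, topologicalKrullDim ↥(X.hom.fiber s) = 1) (g : ℕ) (hg : 2 ≤ g)
  (hgen : ∀ s : S, letI : (X.hom.fiber s).Over (Spec (S.residueField s)) := ⟨X.hom.fiberToSpecResidueField s⟩
    Curv2.genus (S.residueField s) (X.hom.fiber s) = g)

include hdim hg hgen in
/-- Geometric fibres have no vector fields. -/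
theorem derZero_geomFibre {K : Type u} [Field K] [IsAlgClosed K] (s : Spec (CommRingCat.of K) ⟶ S) :
    Groth.L14.DefLift.DerZero (pullback.snd X.hom s) := by
  obtain ⟨hC, -, hgC⟩ := curve_of_isPullback hdim g hgen _ _ (IsPullback.of_hasPullback X.hom s)
  letI : (pullback X.hom s).Over (Spec (CommRingCat.of K)) := ⟨pullback.snd X.hom s⟩
  rw [Groth.L14.DefLift.derZero_iff]
  refine ⟨fun α β => ?_⟩
  have h := fun θ => Groth.Agent.S1613.result K (pullback X.hom s) hC (hg.trans hgC.ge) θ
  exact (h α).trans (h β).symm

variable {G : Over S} [GrpObj G] (a : AlgGrp.Action G X) (hG : AutSch.Represents X G a)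

include hG in
theorem point_ext {T : Over S} (γ γ' : T ⟶ G) (h : AutSch.famOf a γ = AutSch.famOf a γ') : γ = γ' := by
  obtain ⟨γ₀, -, hu⟩ := ((AutSch.represents_iff (X := X) G a).1 hG) T _ (isAutFamily_famOf a γ)
  exact (hu γ rfl).trans (hu γ' h.symm).symm

include hdim hg hgen hG in
set_option maxHeartbeats 1000000 in
/-- The automorphism scheme is unramified. -/
theorem formallyUnramified [LocallyOfFinitePresentation G.hom] : FormallyUnramified G.hom := by
  rw [Groth.Agent.S14352.result G.hom]
  intro K _ _ s
  let q := pullback.snd G.hom s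
  haveI : FormallyUnramified q := by
    rw [Groth.Agent.S18905.result K q]
    intro v₁ v₂ h₁ h₂ h₀
    let A : Art K K := dual K K
    let T : Over S := Over.mk (specOver A ≫ s)
    have hb : ∀ v : spec A ⟶ pullback G.hom s, v ≫ q = specOver A →
        (v ≫ pullback.fst G.hom s) ≫ G.hom = specOver A ≫ s := fun v hv => by
      rw [Category.assoc, pullback.condition, ← Category.assoc, hv]
    let γ₁ : T ⟶ G := Over.homMk (v₁ ≫ pullback.fst G.hom s) (hb v₁ h₁)
    let γ₂ : T ⟶ G := Over.homMk (v₂ ≫ pullback.fst G.hom s) (hb v₂ h₂)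
    let r₀ : Over.mk s ⟶ T := Over.homMk (specRes A) (by
      show specRes A ≫ specOver A ≫ s = s
      rw [← Category.assoc, show specRes A ≫ specOver A = 𝟙 _ by
        show specRes A ≫ specMap (ofBase A) = 𝟙 _
        rw [specRes_comp, ← Category.id_comp (specRes _)]
        exact comp_specRes_base (𝟙 _), Category.id_comp])
    have h₀' : r₀ ≫ γ₁ = r₀ ≫ γ₂ := Over.OverMorphism.ext
      (((Category.assoc _ _ _).symm.trans (congrArg (· ≫ pullback.fst G.hom s) h₀)).trans (Category.assoc _ _ _))
    let x := pullback.snd X.hom s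
    let E₀ : X ⊗ Over.mk s ⟶ X ⊗ Over.mk s := AutSch.endOf (AutSch.famOf a (r₀ ≫ γ₁))
    haveI : IsIso E₀ := isAutFamily_famOf a (r₀ ≫ γ₁)
    let r : pullback X.hom s ⟶ pullback X.hom s := E₀.left
    haveI : IsIso r := inferInstanceAs (IsIso ((Over.forget S).map E₀))
    have hr : r ≫ x = x := congrArg CommaMorphism.left (AutSch.endOf_snd _)
    let j : pullback x (specOver A) ⟶ pullback X.hom (specOver A ≫ s) :=
      (pullbackLeftPullbackSndIso X.hom s (specOver A)).hom
    have hj : XAincl x A ≫ j = (X ◁ r₀).left := by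
      apply pullback.hom_ext
      · refine (Category.assoc _ _ _).trans ((congrArg (XAincl x A ≫ ·)
          (pullbackLeftPullbackSndIso_hom_fst X.hom s (specOver A))).trans ?_)
        rw [← Category.assoc, XAincl_fst, Category.id_comp]
        exact (Over.whiskerLeft_left_fst (R := X) r₀).symm
      · refine (Category.assoc _ _ _).trans ((congrArg (XAincl x A ≫ ·)
          (pullbackLeftPullbackSndIso_hom_snd X.hom s (specOver A))).trans ?_)
        exact (XAincl_snd x A).trans (Over.whiskerLeft_left_snd (R := X) r₀).symm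
    have hc : ∀ γ : T ⟶ G, (j ≫ (AutSch.famOf a γ).left) ≫ X.hom =
        (pullback.snd x (specOver A) ≫ specOver A) ≫ s := fun γ => by
      refine (Category.assoc _ _ _).trans ((congrArg (j ≫ ·) ((Over.w (AutSch.famOf a γ)).trans
        pullback.condition)).trans ?_)
      refine (Category.assoc _ _ _).symm.trans ((congrArg (· ≫ (specOver A ≫ s))
        (pullbackLeftPullbackSndIso_hom_snd X.hom s (specOver A))).trans (Category.assoc _ _ _).symm)
    let g' : (T ⟶ G) → (pullback x (specOver A) ⟶ pullback X.hom s) := fun γ =>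
      pullback.lift (j ≫ (AutSch.famOf a γ).left) (pullback.snd x (specOver A) ≫ specOver A) (hc γ)
    have hi : ∀ γ : T ⟶ G, r₀ ≫ γ = r₀ ≫ γ₁ → XAincl x A ≫ g' γ = r := fun γ hγ => by
      apply pullback.hom_ext
      · rw [Category.assoc, pullback.lift_fst, ← Category.assoc, hj]
        refine Eq.trans ?_ (congrArg CommaMorphism.left (AutSch.endOf_fst (AutSch.famOf a (r₀ ≫ γ₁)))).symm
        rw [← hγ, AutSch.famOf_comp]
        rfl
      · rw [Category.assoc, pullback.lift_snd]
        exact ((congrArg (XAincl x A ≫ ·) pullback.condition.symm).trans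
          ((Category.assoc _ _ _).symm.trans ((congrArg (· ≫ x) (XAincl_fst x A)).trans (Category.id_comp x)))).trans
          hr.symm
    have h0 := derZero_geomFibre hdim g hg hgen s
    have hgg : g' γ₁ = g' γ₂ :=
      (eq_prX_comp h0 r hr (g' γ₁) (pullback.lift_snd _ _ _) (hi γ₁ rfl)).trans
        (eq_prX_comp h0 r hr (g' γ₂) (pullback.lift_snd _ _ _) (hi γ₂ h₀'.symm)).symm
    have hF : j ≫ (AutSch.famOf a γ₁).left = j ≫ (AutSch.famOf a γ₂).left := by
      have h := congrArg (· ≫ pullback.fst X.hom s) hgg
      simpa only [g', pullback.lift_fst] using h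
    have hγ : γ₁ = γ₂ := point_ext a hG γ₁ γ₂ (Over.OverMorphism.ext ((cancel_epi j).1 hF))
    apply pullback.hom_ext
    · exact congrArg CommaMorphism.left hγ
    · exact h₁.trans h₂.symm
  obtain ⟨hred, hdisc⟩ := (Groth.Agent.S14352.result q).1 inferInstance K (𝟙 _)
  haveI : IsIso (pullback.fst q (𝟙 (Spec (CommRingCat.of K)))) :=
    (IsPullback.of_hasPullback q (𝟙 _)).isIso_fst_of_isIso
  exact ⟨isReduced_of_isOpenImmersion (inv (pullback.fst q (𝟙 (Spec (CommRingCat.of K))))),
    (pullback.fst q (𝟙 (Spec (CommRingCat.of K)))).homeomorph.discreteTopology_iff.1 hdisc⟩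

include hdim hg hgen hG in
set_option maxHeartbeats 1000000 in
/-- The automorphism scheme is proper. -/
theorem isProper [IsLocallyNoetherian S] [LocallyOfFiniteType G.hom] [QuasiCompact G.hom] [IsSeparated G.hom] :
    IsProper G.hom := by
  haveI : UniversallyClosed G.hom := by
    rw [Groth.Agent.S9213.result G.hom]
    intro R _ _ _ x₀ y hxy
    let ηR := Spec.map (CommRingCat.ofHom (algebraMap R (FractionRing R)))
    let f := pullback.snd X.hom y
    let T₀ : Over S := Over.mk (ηR ≫ y)
    let T₁ : Over S := Over.mk y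
    let γ : T₀ ⟶ G := Over.homMk x₀ hxy
    let F := AutSch.famOf a γ
    let E₀ : X ⊗ T₀ ⟶ X ⊗ T₀ := AutSch.endOf F
    haveI : IsIso E₀ := isAutFamily_famOf a γ
    let E : pullback X.hom (ηR ≫ y) ⟶ pullback X.hom (ηR ≫ y) := E₀.left
    haveI : IsIso E := inferInstanceAs (IsIso ((Over.forget S).map E₀))
    let j := pullbackLeftPullbackSndIso X.hom y ηR
    let φ : pullback f ηR ≅ pullback f ηR := j ≪≫ asIso E ≪≫ j.symm
    have hE : E ≫ pullback.snd X.hom (ηR ≫ y) = pullback.snd X.hom (ηR ≫ y) :=
      congrArg CommaMorphism.left (AutSch.endOf_snd F)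
    have hφ : φ.hom ≫ pullback.snd f ηR = pullback.snd f ηR := by
      show (j.hom ≫ E ≫ j.inv) ≫ _ = _
      rw [Category.assoc, Category.assoc, pullbackLeftPullbackSndIso_inv_snd_snd, hE]
      exact pullbackLeftPullbackSndIso_hom_snd _ _ _
    have hfd : ∀ c : ↥(Spec (CommRingCat.of R)), topologicalKrullDim ↥(f.fiber c) = 1 := fun c =>
      (Groth.Agent.S9777.result X.hom y f _ (IsPullback.of_hasPullback X.hom y) c).trans (hdim _)
    have hfg : ∀ c : ↥(Spec (CommRingCat.of R)),
        letI : (f.fiber c).Over (Spec ((Spec (CommRingCat.of R)).residueField c)) := ⟨f.fiberToSpecResidueField c⟩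
        Curv2.genus ((Spec (CommRingCat.of R)).residueField c) (f.fiber c) = g := fun c =>
      (curve_of_isPullback hdim g hgen (K := (Spec (CommRingCat.of R)).residueField c) _ _
        ((IsPullback.of_hasPullback f _).paste_horiz (IsPullback.of_hasPullback X.hom y))).2.2
    obtain ⟨e, he, heη, -⟩ := Groth.Agent.S18894.result f f hfd hfd g (le_trans one_le_two hg) hfg hfg ηR rfl φ hφ
    let ψ : X ⊗ T₁ ⟶ X := Over.homMk (e.hom ≫ pullback.fst X.hom y) (by
      show (e.hom ≫ pullback.fst X.hom y) ≫ X.hom = pullback.fst X.hom y ≫ X.hom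
      rw [Category.assoc, pullback.condition, ← Category.assoc, he])
    have hψ : AutSch.IsAutFamily ψ := by
      have h : (AutSch.endOf ψ).left = e.hom := pullback.hom_ext
        (congrArg CommaMorphism.left (AutSch.endOf_fst ψ))
        ((congrArg CommaMorphism.left (AutSch.endOf_snd ψ)).trans he.symm)
      haveI : IsIso ((Over.forget S).map (AutSch.endOf ψ)) := by
        show IsIso (AutSch.endOf ψ).left
        rw [h]
        infer_instance
      exact isIso_of_reflects_iso _ (Over.forget S)
    obtain ⟨l, hl, -⟩ := ((AutSch.represents_iff (X := X) G a).1 hG) T₁ ψ hψ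
    let r : T₀ ⟶ T₁ := Over.homMk ηR rfl
    have hr : r ≫ l = γ := by
      refine point_ext a hG _ _ ?_
      rw [AutSch.famOf_comp, hl]
      refine Over.OverMorphism.ext ?_
      show (X ◁ r).left ≫ e.hom ≫ pullback.fst X.hom y = F.left
      have hw : (X ◁ r).left = j.inv ≫ pullback.fst f ηR := by
        apply pullback.hom_ext
        · exact (Over.whiskerLeft_left_fst (R := X) r).trans
            ((Category.assoc _ _ _).trans (pullbackLeftPullbackSndIso_inv_fst X.hom y ηR)).symm
        · refine (Over.whiskerLeft_left_snd (R := X) r).trans ((Category.assoc _ _ _).trans ?_).symm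
          refine (congrArg (j.inv ≫ ·) pullback.condition).trans ?_
          exact (Category.assoc _ _ _).symm.trans
            (congrArg (· ≫ ηR) (pullbackLeftPullbackSndIso_inv_snd_snd X.hom y ηR))
      rw [hw, Category.assoc, ← Category.assoc (pullback.fst f ηR), heη]
      show j.inv ≫ ((j.hom ≫ E ≫ j.inv) ≫ _) ≫ _ = _
      simp only [Category.assoc, Iso.inv_hom_id_assoc]
      exact (congrArg (E ≫ ·) (pullbackLeftPullbackSndIso_inv_fst X.hom y ηR)).trans
        (congrArg CommaMorphism.left (AutSch.endOf_fst F))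
    exact ⟨l.left, Over.w l, congrArg CommaMorphism.left hr⟩
  exact {}

end Groth.L21.AutSch
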