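import Groth.Agent.L14.HomTan.Morph
import Groth.Agent.L14.DefLift.AutOmega
import Groth.Agent.L14.LocHilb.HilbPt
import Groth.Prelude.Def_AutSch

/-! # Infinitesimal automorphisms: families over the dual numbers and derivations -/

set_option autoImplicit false
set_option linter.style.haveILetI false
set_option linter.unusedSectionVars false
set_option backward.isDefEq.respectTransparency.types false
set_option backward.isDefEq.respectTransparency false

universe u

open CategoryTheory CategoryTheory.Limits AlgebraicGeometry TopologicalSpace Opposite ArtFun ArtFun.Art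

noncomputable section

namespace Groth.L21.AutSch

open Groth.L14.HomTan (Pts derOf derOf_injective derOf_surjective)
open Groth.L14.LocHilb (XE prX)
open Groth.L14.DefLift (DerZero)

section Field

variable {k : Type u} [Field k] {X : Scheme.{u}} {x : X ⟶ specPt k}

/-- The undeformed point. -/
def trivPt (x : X ⟶ specPt k) : Pts x x (𝟙 X) :=
  ⟨prX x, pullback.condition, XAincl_fst x _⟩

/-- There are no derivations exactly when the identity has no first-order deformations. -/
theorem derZero_iff_subsingleton_pts : DerZero x ↔ Subsingleton (Pts x x (𝟙 X)) := by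
  let O := Coh.structureModule X
  let e : (Scheme.Modules.pushforward (𝟙 X)).obj O ≅ O := (Scheme.Modules.pushforwardId X).app O
  have hb : Function.Bijective (derOf (x := x) (Category.id_comp x)) :=
    ⟨derOf_injective _, derOf_surjective _⟩
  have he : ∀ D : OmegaSh.Der x O, (D.postcomp e.inv.val).postcomp e.hom.val = D := fun D => by
    refine PresheafOfModules.Derivation.ext (funext fun U => AddMonoidHom.ext fun s => ?_)
    rfl
  constructor
  · intro h
    refine ⟨fun φ ψ => hb.1 ?_⟩
    refine PresheafOfModules.Derivation.ext (funext fun U => AddMonoidHom.ext fun s => ?_)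
    exact (h ((derOf _ φ).postcomp e.hom.val) U.unop s).trans (h ((derOf _ ψ).postcomp e.hom.val) U.unop s).symm
  · intro h D U s
    obtain ⟨φ, hφ⟩ := hb.2 (D.postcomp e.inv.val)
    obtain ⟨ψ, hψ⟩ := hb.2 ((D.postcomp (0 : O.val ⟶ O.val)).postcomp e.inv.val)
    rw [← he D, ← hφ, Subsingleton.elim φ ψ, hψ, he]
    rfl

/-- Without derivations an automorphism has no first-order deformations. -/
theorem eq_prX_comp (h : DerZero x) (r : X ⟶ X) [IsIso r] (hr : r ≫ x = x) (g : (XE x).total ⟶ X)
    (hg : g ≫ x = pullback.snd x (specOver (dual k k)) ≫ specOver (dual k k)) (hi : (XE x).i ≫ g = r) :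
    g = prX x ≫ r := by
  haveI := derZero_iff_subsingleton_pts.1 h
  have hr' : inv r ≫ x = x := by rw [IsIso.inv_comp_eq, hr]
  have hgr : g ≫ inv r = prX x := congrArg Subtype.val (Subsingleton.elim (α := Pts x x (𝟙 X))
    ⟨g ≫ inv r, by rw [Category.assoc, hr', hg], by rw [← Category.assoc, hi, IsIso.hom_inv_id]⟩ (trivPt x))
  rw [← hgr, Category.assoc, IsIso.inv_hom_id, Category.comp_id]

end Field

section Families

open MonoidalCategory CartesianMonoidalCategory MonObj GrpObj

variable {S : Scheme.{u}} {X G : Over S} [GrpObj G] (a : AlgGrp.Action G X)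

/-- The unit gives the trivial family. -/
theorem famOf_one (T : Over S) : AutSch.famOf a (1 : T ⟶ G) = fst X T := by
  have h : lift (snd X T ≫ (1 : T ⟶ G)) (fst X T) = lift (toUnit (X ⊗ T)) (fst X T) ≫ (η[G] ▷ X) := by
    apply CartesianMonoidalCategory.hom_ext
    · simp [Hom.one_def]
    · simp
  rw [AutSch.famOf, h, Category.assoc, a.one_act]
  simp

/-- Families compose by multiplication of points. -/
theorem endOf_comp {T : Over S} (g g' : T ⟶ G) :
    AutSch.endOf (AutSch.famOf a g) ≫ AutSch.endOf (AutSch.famOf a g') = AutSch.endOf (AutSch.famOf a (g' * g)) := by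
  apply CartesianMonoidalCategory.hom_ext
  · rw [Category.assoc, AutSch.endOf_fst, AutSch.endOf_fst]
    have e : lift (lift (snd X T ≫ g') (snd X T ≫ g)) (fst X T) ≫ (μ[G] ▷ X) =
        lift (snd X T ≫ (g' * g)) (fst X T) := by
      apply CartesianMonoidalCategory.hom_ext
      · simp [Hom.mul_def, comp_lift_assoc]
      · simp
    conv_rhs => rw [AutSch.famOf, ← e, Category.assoc, a.mul_act]
    simp only [AutSch.famOf, lift_lift_associator_hom_assoc, lift_whiskerLeft_assoc, comp_lift_assoc,
      AutSch.endOf_fst, AutSch.endOf_snd_assoc]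
  · simp

/-- Every point gives a family of automorphisms. -/
theorem isAutFamily_famOf {T : Over S} (g : T ⟶ G) : AutSch.IsAutFamily (AutSch.famOf a g) := by
  have h1 : AutSch.endOf (AutSch.famOf a (1 : T ⟶ G)) = 𝟙 _ := by
    rw [famOf_one]
    apply CartesianMonoidalCategory.hom_ext <;> simp
  refine ⟨AutSch.endOf (AutSch.famOf a g⁻¹), ?_, ?_⟩
  · rw [endOf_comp, inv_mul_cancel, h1]
  · rw [endOf_comp, mul_inv_cancel, h1]

end Families

end Groth.L21.AutSch

namespace Groth.L21.AutSch

open MonoidalCategory CartesianMonoidalCategory MonObj GrpObj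
open Groth.L14.LocHilb (ptOver resOver)

variable {k : Type u} [Field k] {X G : Over (specPt k)} [GrpObj G] (a : AlgGrp.Action G X)

/-- The closed fibre inside the dual-number family. -/
def sect : X.left ⟶ (X ⊗ 𝟙_ (Over (specPt k))).left :=
  pullback.lift (𝟙 X.left) X.hom ((Category.id_comp X.hom).trans (Category.comp_id X.hom).symm)

theorem sect_resOver (A : Art k k) :
    sect (X := X) ≫ (X ◁ (resOver A : 𝟙_ (Over (specPt k)) ⟶ ptOver A)).left = XAincl X.hom A := by
  apply pullback.hom_ext
  · rw [Category.assoc]
    exact ((congrArg (sect ≫ ·) (Over.whiskerLeft_left_fst (R := X) _)).trans (pullback.lift_fst _ _ _)).trans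
      (XAincl_fst X.hom A).symm
  · rw [Category.assoc]
    refine ((congrArg (sect ≫ ·) (Over.whiskerLeft_left_snd (R := X) _)).trans ?_).trans (XAincl_snd X.hom A).symm
    exact (Category.assoc _ _ _).symm.trans (congrArg (· ≫ specRes A) (pullback.lift_snd _ _ _))

theorem incl_family {A : Art k k} (Φ : X ⊗ ptOver A ⟶ X) :
    XAincl X.hom A ≫ Φ.left = sect ≫ (AutSch.pullFam (resOver A : 𝟙_ (Over (specPt k)) ⟶ ptOver A) Φ).left := by
  rw [← sect_resOver (X := X) A, Category.assoc]
  rfl

theorem sect_fst : sect (X := X) ≫ (fst X (𝟙_ (Over (specPt k)))).left = 𝟙 X.left := pullback.lift_fst _ _ _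

theorem one_unit : (1 : 𝟙_ (Over (specPt k)) ⟶ G) = η[G] := by
  simp [Hom.one_def]

/-- A field has no nontrivial infinitesimal neighbourhood in itself. -/
theorem specRes_surjective (A : Art k k) : Function.Surjective (specRes A) := fun p => by
  refine ⟨IsLocalRing.closedPoint k, ?_⟩
  haveI : Ring.KrullDimLE 0 A := inferInstance
  exact Subsingleton.elim (α := PrimeSpectrum A) _ _

/-- Unramifiedness at the unit kills infinitesimal families. -/
theorem eq_one_of_open (hη : IsOpenImmersion η[G].left) {A : Art k k} (g : ptOver A ⟶ G)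
    (hg : (resOver A : 𝟙_ (Over (specPt k)) ⟶ ptOver A) ≫ g = η[G]) : g = 1 := by
  have key : ∀ g' : ptOver A ⟶ G, (resOver A : 𝟙_ (Over (specPt k)) ⟶ ptOver A) ≫ g' = η[G] →
      g'.left = specOver A ≫ η[G].left := by
    intro g' hg'
    have hsub : Set.range g'.left ⊆ Set.range η[G].left := by
      rintro _ ⟨p, rfl⟩
      obtain ⟨q, rfl⟩ := specRes_surjective A p
      exact ⟨q, (congrArg (fun t : 𝟙_ (Over (specPt k)) ⟶ G => t.left q) hg').symm⟩
    have hl := IsOpenImmersion.lift_fac η[G].left g'.left hsub
    refine hl.symm.trans (congrArg (· ≫ η[G].left) ?_)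
    refine ((Category.comp_id _).symm.trans ((congrArg (IsOpenImmersion.lift η[G].left g'.left hsub ≫ ·)
      (Over.w η[G]).symm).trans ?_))
    rw [← Category.assoc, hl]
    exact Over.w g'
  exact Over.OverMorphism.ext ((key g hg).trans (key 1 ((MonObj.comp_one _).trans one_unit)).symm)

end Groth.L21.AutSch
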