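import Groth.Agent.L14.LocHilb.HilbTangent
import Mathlib.AlgebraicGeometry.Morphisms.FlatMono
import Mathlib.AlgebraicGeometry.Morphisms.FinitePresentation
import Mathlib.RingTheory.Ideal.Cotangent
import Mathlib.LinearAlgebra.Dual.Lemmas

/-! # A rational point without tangent vectors is open -/

set_option autoImplicit false
set_option linter.style.haveILetI false
set_option linter.unusedSectionVars false
set_option backward.isDefEq.respectTransparency.types false
set_option backward.isDefEq.respectTransparency false

universe u

open CategoryTheory CategoryTheory.Limits AlgebraicGeometry TopologicalSpace Opposite ArtFun ArtFun.Art IsLocalRing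

noncomputable section

namespace Groth.L21.AutSch

open Groth.L14.LocHilb (St stAlg stMap StHom ptOfDual ptOfDual_bijective)

/-- A rational point without tangent vectors of a scheme locally of finite type over a field is open. -/
theorem isOpenImmersion_of_subsingleton_tangent {k : Type u} [Field k] {P : Scheme.{u}} (π : P ⟶ specPt k)
    [LocallyOfFiniteType π] (σ : specPt k ⟶ P) (hσ : σ ≫ π = 𝟙 _)
    (h : Subsingleton (StHom π σ (dual k k))) : IsOpenImmersion σ := by
  letI : Algebra k (St σ) := stAlg π σ
  haveI : IsLocallyNoetherian P := LocallyOfFiniteType.isLocallyNoetherian π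
  haveI : IsNoetherianRing (St σ) := inferInstanceAs (IsNoetherianRing (P.presheaf.stalk (σ (closedPoint k))))
  haveI : Subsingleton (CotangentSpace (St σ) →ₗ[k] k) :=
    (ptOfDual_bijective π σ hσ rfl).1.subsingleton
  haveI : Subsingleton (CotangentSpace (St σ)) := ⟨fun a b => sub_eq_zero.1
    ((Module.forall_dual_apply_eq_zero_iff k (a - b)).1 fun φ => by rw [Subsingleton.elim φ 0]; rfl)⟩
  have hfield : IsField (St σ) := subsingleton_cotangentSpace_iff.1 inferInstance
  haveI : LocallyOfFiniteType (σ ≫ π) := by rw [hσ]; infer_instance
  haveI : LocallyOfFiniteType σ := locallyOfFiniteType_of_comp σ π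
  haveI : LocallyOfFinitePresentation σ := inferInstance
  haveI : Mono σ := by
    haveI : Mono (σ ≫ π) := by rw [hσ]; infer_instance
    exact mono_of_mono σ π
  haveI : Flat σ := by
    rw [Flat.iff_flat_stalkMap]
    intro q
    obtain rfl : q = closedPoint k := Subsingleton.elim (α := PrimeSpectrum k) _ _
    have hf : ∀ {R T : Type u} [CommRing R] [CommRing T], IsField R → ∀ f : R →+* T, f.Flat := by
      intro R T _ _ hR f
      letI := hR.toField
      letI := f.toAlgebra
      exact Module.Flat.of_free
    exact hf hfield _
  exact IsOpenImmersion.of_flat_of_mono σ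

end Groth.L21.AutSch
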